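import Mathlib.LinearAlgebra.ExteriorPower.Basic
import Mathlib.LinearAlgebra.TensorProduct.Basic
import Mathlib.RingTheory.TensorProduct.Basic
import Mathlib.RingTheory.AdjoinRoot
import Mathlib.RingTheory.Kaehler.Basic
import Mathlib.Algebra.TrivSqZeroExt.Basic
import Mathlib.Algebra.CharP.Lemmas

/-! The trace on differential forms of a purely inseparable root extension `R[x]/(x ^ p - a)`. -/

set_option linter.style.haveILetI false
set_option autoImplicit false

universe u

open scoped TensorProduct
open Polynomial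

namespace Groth.Agent.ResolveLib.FormTrace

section Descend

variable {R : Type u} [CommRing R] {M Q W : Type u} [AddCommGroup M] [Module R M] [AddCommGroup Q] [Module R Q]
  [AddCommGroup W] [Module R W] {ι : Type} [Fintype ι] [DecidableEq ι]

theorem map_eq_of_sub_mem_ker (π : M →ₗ[R] Q) (f : M [⋀^ι]→ₗ[R] W)
    (hf : ∀ (v : ι → M) (i : ι), π (v i) = 0 → f v = 0) (v v' : ι → M) (h : ∀ i, π (v i) = π (v' i)) :
    f v = f v' := by
  have key : ∀ s : Finset ι, f (s.piecewise v' v) = f v := by
    intro s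
    induction s using Finset.induction with
    | empty => simp
    | insert i s hi ih =>
      rw [Finset.piecewise_insert, ← ih, ← sub_eq_zero]
      conv_lhs => arg 2; rw [← Function.update_eq_self i (s.piecewise v' v)]
      rw [← f.map_update_sub]
      refine hf _ i ?_
      rw [Function.update_self, Finset.piecewise_eq_of_notMem _ _ _ hi, map_sub, h i, sub_self]
  rw [← key Finset.univ, Finset.piecewise_univ]

/-- Descend an alternating map along a surjection. -/
theorem exists_descend (π : M →ₗ[R] Q) (hπ : Function.Surjective π) (f : M [⋀^ι]→ₗ[R] W)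
    (hf : ∀ (v : ι → M) (i : ι), π (v i) = 0 → f v = 0) :
    ∃ g : Q [⋀^ι]→ₗ[R] W, ∀ v, g (π ∘ v) = f v := by
  choose s hs using hπ
  have hwd : ∀ (q : ι → Q) (v : ι → M), (∀ i, π (v i) = q i) → f (s ∘ q) = f v := fun q v h =>
    map_eq_of_sub_mem_ker π f hf _ _ fun i => by rw [Function.comp_apply, hs, h]
  refine ⟨{ toFun := fun q => f (s ∘ q)
            map_update_add' := fun {_} q i x y => ?_
            map_update_smul' := fun {_} q i c x => ?_
            map_eq_zero_of_eq' := fun q i j hij hne => f.map_eq_zero_of_eq _ (congrArg s hij) hne },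
    fun v => hwd _ v fun _ => rfl⟩
  · rw [hwd _ (Function.update (s ∘ q) i (s x + s y)) fun j => by
        by_cases hj : j = i
        · subst hj; simp [hs]
        · simp [hj, hs],
      f.map_update_add, hwd (Function.update q i x) (Function.update (s ∘ q) i (s x)) fun j => by
        by_cases hj : j = i
        · subst hj; simp [hs]
        · simp [hj, hs],
      hwd (Function.update q i y) (Function.update (s ∘ q) i (s y)) fun j => by
        by_cases hj : j = i
        · subst hj; simp [hs]
        · simp [hj, hs]]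
  · rw [hwd _ (Function.update (s ∘ q) i (c • s x)) fun j => by
        by_cases hj : j = i
        · subst hj; simp [hs]
        · simp [hj, hs],
      f.map_update_smul, hwd (Function.update q i x) (Function.update (s ∘ q) i (s x)) fun j => by
        by_cases hj : j = i
        · subst hj; simp [hs]
        · simp [hj, hs]]

end Descend

section Contract

variable {R : Type u} [CommRing R] {M : Type u} [AddCommGroup M] [Module R M] (e : M) (n : ℕ)

/-- The component used in the `j`-th slot. -/
noncomputable def slot (j i : Fin n) : M × R →ₗ[R] M :=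
  if i = j then (LinearMap.toSpanSingleton R M e).comp (LinearMap.snd R M R) else LinearMap.fst R M R

theorem slot_self (j : Fin n) (v : M × R) : slot e n j j v = v.2 • e := by simp [slot]

theorem slot_ne {j i : Fin n} (h : i ≠ j) (v : M × R) : slot e n j i v = v.1 := by simp [slot, h]

/-- Replace one factor `(m, r)` by `r • e`. -/
noncomputable def contract : (M × R) [⋀^Fin n]→ₗ[R] ⋀[R]^n M where
  toMultilinearMap := ∑ j, (exteriorPower.ιMulti R n).toMultilinearMap.compLinearMap (slot e n j)
  map_eq_zero_of_eq' v i k hik hne := by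
    show (∑ j, (exteriorPower.ιMulti R n).toMultilinearMap.compLinearMap (slot e n j)) v = 0
    rw [MultilinearMap.sum_apply]
    show ∑ j, exteriorPower.ιMulti R n (fun l => slot e n j l (v l)) = 0
    rw [Finset.sum_eq_add i k hne
      (fun j _ hj => (exteriorPower.ιMulti R n).map_eq_zero_of_eq _
        (by rw [slot_ne e n hj.1.symm, slot_ne e n hj.2.symm, hik]) hne) (by simp) (by simp)]
    have hswap : (fun l => slot e n k l (v l)) = (fun l => slot e n i l (v l)) ∘ Equiv.swap i k := by
      funext l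
      rw [Function.comp_apply]
      by_cases h1 : l = i
      · subst h1
        rw [Equiv.swap_apply_left, slot_ne e n hne, slot_ne e n (Ne.symm hne), hik]
      · by_cases h2 : l = k
        · subst h2
          rw [Equiv.swap_apply_right, slot_self, slot_self, hik]
        · rw [Equiv.swap_apply_of_ne_of_ne h1 h2, slot_ne e n h1, slot_ne e n h2]
    show exteriorPower.ιMulti R n (fun l => slot e n i l (v l)) + exteriorPower.ιMulti R n (fun l => slot e n k l (v l)) = 0
    rw [hswap, (exteriorPower.ιMulti R n).map_swap _ hne, add_neg_cancel]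

theorem contract_apply (v : Fin n → M × R) :
    contract e n v = ∑ j, exteriorPower.ιMulti R n fun i => slot e n j i (v i) := by
  show (∑ j, (exteriorPower.ιMulti R n).toMultilinearMap.compLinearMap (slot e n j)) v = _
  rw [MultilinearMap.sum_apply]
  rfl

theorem contract_eq_zero_of_mem (v : Fin n → M × R) (i : Fin n) {c : R} (h : v i = c • (e, (0 : R))) :
    contract e n v = 0 := by
  rw [contract_apply]
  refine Finset.sum_eq_zero fun j _ => ?_
  by_cases hj : i = j
  · subst hj
    exact (exteriorPower.ιMulti R n).map_coord_zero i (by rw [slot_self, h]; simp)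
  · let w := fun l => slot e n j l (v l)
    have hw : w = Function.update (Function.update w i (c • e)) j ((v j).2 • e) := by
      funext l
      by_cases h1 : l = j
      · subst h1; rw [Function.update_self]; exact slot_self e n l _
      · rw [Function.update_of_ne h1]
        by_cases h2 : l = i
        · subst h2
          rw [Function.update_self]
          show slot e n j l (v l) = _
          rw [slot_ne e n h1, h]
          rfl
        · rw [Function.update_of_ne h2]
    show exteriorPower.ιMulti R n w = 0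
    rw [hw, (exteriorPower.ιMulti R n).map_update_smul, Function.update_comm hj,
      (exteriorPower.ιMulti R n).map_update_smul]
    have hz : exteriorPower.ιMulti R n (Function.update (Function.update w j e) i e) = 0 :=
      (exteriorPower.ιMulti R n).map_eq_zero_of_eq _ (i := i) (j := j)
        (by rw [Function.update_self, Function.update_of_ne (Ne.symm hj), Function.update_self]) hj
    rw [hz, smul_zero, smul_zero]

end Contract

section Main

variable (p : ℕ) [Fact p.Prime] (Λ R : Type u) [CommRing Λ] [CommRing R] [Algebra Λ R] [CharP R p] (a : R)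

theorem exists_trace (t : ℕ) :
    ∃ Tr : (⋀[AdjoinRoot (X ^ p - C a : R[X])]^(t + 1) (Ω[AdjoinRoot (X ^ p - C a : R[X])⁄Λ])) →+ (⋀[R]^(t + 1) (Ω[R⁄Λ])),
      (∀ (r : R) (ω : ⋀[AdjoinRoot (X ^ p - C a : R[X])]^(t + 1) (Ω[AdjoinRoot (X ^ p - C a : R[X])⁄Λ])),
        Tr (algebraMap R (AdjoinRoot (X ^ p - C a : R[X])) r • ω) = r • Tr ω) ∧
      (∀ (η : Fin t → Ω[R⁄Λ]) (i : ℕ), i + 2 ≤ p →
        Tr (exteriorPower.ιMulti _ (t + 1) (Fin.snoc (fun j => KaehlerDifferential.map Λ Λ R (AdjoinRoot (X ^ p - C a : R[X])) (η j))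
          (AdjoinRoot.root (X ^ p - C a) ^ i • KaehlerDifferential.D Λ _ (AdjoinRoot.root (X ^ p - C a))))) = 0) ∧
      (∀ (η : Fin t → Ω[R⁄Λ]),
        Tr (exteriorPower.ιMulti _ (t + 1) (Fin.snoc (fun j => KaehlerDifferential.map Λ Λ R (AdjoinRoot (X ^ p - C a : R[X])) (η j))
          (AdjoinRoot.root (X ^ p - C a) ^ (p - 1) • KaehlerDifferential.D Λ _ (AdjoinRoot.root (X ^ p - C a))))) =
          exteriorPower.ιMulti R (t + 1) (Fin.snoc η (KaehlerDifferential.D Λ R a))) ∧
      (∀ (s : AdjoinRoot (X ^ p - C a : R[X])) (η : Fin (t + 1) → Ω[R⁄Λ]),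
        Tr (s • exteriorPower.ιMulti _ (t + 1) (fun j => KaehlerDifferential.map Λ Λ R (AdjoinRoot (X ^ p - C a : R[X])) (η j))) = 0) := by
  classical
  have hp : p.Prime := Fact.out
  haveI : Nontrivial R := CharP.nontrivial_of_char_ne_one (R := R) hp.ne_one
  let S := AdjoinRoot (X ^ p - C a : R[X])
  let x : S := AdjoinRoot.root (X ^ p - C a)
  let e : Ω[R⁄Λ] := KaehlerDifferential.D Λ R a
  let rel : Submodule R (Ω[R⁄Λ] × R) := Submodule.span R {(e, (0 : R))}
  let Q := (Ω[R⁄Λ] × R) ⧸ rel
  obtain ⟨ψ, hψ⟩ := exists_descend rel.mkQ (Submodule.mkQ_surjective _) (contract e (t + 1)) fun v i h => by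
    obtain ⟨c, hc⟩ := Submodule.mem_span_singleton.1 ((Submodule.Quotient.mk_eq_zero _).1 h)
    exact contract_eq_zero_of_mem e (t + 1) v i hc.symm
  -- the derivation
  let q₁ : Ω[R⁄Λ] →ₗ[R] Q := rel.mkQ.comp (LinearMap.inl R (Ω[R⁄Λ]) R)
  let g₀ : R →+* TrivSqZeroExt S (S ⊗[R] Q) :=
    { toFun := fun r => TrivSqZeroExt.inl (algebraMap R S r) +
        TrivSqZeroExt.inr ((1 : S) ⊗ₜ[R] q₁ (KaehlerDifferential.D Λ R r))
      map_one' := by simp
      map_zero' := by simp
      map_add' := fun r r' => TrivSqZeroExt.ext (by simp) (by simp [TensorProduct.tmul_add])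
      map_mul' := fun r r' => by
        refine TrivSqZeroExt.ext (by simp) ?_
        simp only [TrivSqZeroExt.snd_add, TrivSqZeroExt.snd_inl, TrivSqZeroExt.snd_inr, zero_add,
          TrivSqZeroExt.snd_mul, TrivSqZeroExt.fst_add, TrivSqZeroExt.fst_inl, TrivSqZeroExt.fst_inr, add_zero,
          op_smul_eq_smul, algebraMap_smul, Derivation.leibniz, map_add, map_smul, TensorProduct.tmul_add,
          TensorProduct.tmul_smul] }
  let x' : TrivSqZeroExt S (S ⊗[R] Q) :=
    TrivSqZeroExt.inl x + TrivSqZeroExt.inr ((1 : S) ⊗ₜ[R] rel.mkQ (0, 1))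
  have hroot : (X ^ p - C a : R[X]).eval₂ g₀ x' = 0 := by
    rw [eval₂_sub, eval₂_pow, eval₂_X, eval₂_C, sub_eq_zero]
    have hxp : x ^ p = algebraMap R S a := by
      have h := AdjoinRoot.eval₂_root (X ^ p - C a : R[X])
      rw [eval₂_sub, eval₂_pow, eval₂_X, eval₂_C, sub_eq_zero, ← AdjoinRoot.algebraMap_eq] at h
      exact h
    have hq : q₁ e = 0 := (Submodule.Quotient.mk_eq_zero _).2 (Submodule.mem_span_singleton_self _)
    refine TrivSqZeroExt.ext ?_ ?_
    · simp [x', g₀, hxp]
    · have hp0 : (p : S) = 0 := by rw [← map_natCast (algebraMap R S), CharP.cast_eq_zero, map_zero]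
      rw [TrivSqZeroExt.snd_pow, ← Nat.cast_smul_eq_nsmul S, hp0, zero_smul]
      show _ = ((TrivSqZeroExt.inl (algebraMap R S a) + TrivSqZeroExt.inr ((1 : S) ⊗ₜ[R] q₁ e) :
        TrivSqZeroExt S (S ⊗[R] Q))).snd
      rw [hq, TensorProduct.tmul_zero]
      simp
  let G : S →+* TrivSqZeroExt S (S ⊗[R] Q) := AdjoinRoot.lift g₀ x' hroot
  have hG1 : ∀ r, G (algebraMap R S r) = g₀ r := fun r => by
    rw [AdjoinRoot.algebraMap_eq]; exact AdjoinRoot.lift_of hroot
  have hGx : G x = x' := AdjoinRoot.lift_root hroot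
  have hfst : ∀ s, (G s).fst = s := by
    have : (TrivSqZeroExt.fstHom S S (S ⊗[R] Q)).toRingHom.comp G = RingHom.id S := by
      refine Ideal.Quotient.ringHom_ext (Polynomial.ringHom_ext (fun r => ?_) ?_)
      · show (G (AdjoinRoot.of _ r)).fst = AdjoinRoot.of _ r
        rw [← AdjoinRoot.algebraMap_eq, hG1]
        simp [g₀]
        rfl
      · show (G (AdjoinRoot.root _)).fst = AdjoinRoot.root _
        rw [hGx]
        simp [x']
        rfl
    exact fun s => RingHom.congr_fun this s
  let D : Derivation Λ S (S ⊗[R] Q) :=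
    { toFun := fun s => (G s).snd
      map_add' := fun s s' => by simp
      map_smul' := fun c s => by
        rw [RingHom.id_apply, Algebra.smul_def, map_mul, TrivSqZeroExt.snd_mul, hfst, hfst,
          IsScalarTower.algebraMap_apply Λ R S, hG1]
        simp [g₀, op_smul_eq_smul]
      map_one_eq_zero' := by simp
      leibniz' := fun s s' => by
        show (G (s * s')).snd = s • (G s').snd + s' • (G s).snd
        rw [map_mul, TrivSqZeroExt.snd_mul, hfst, hfst, op_smul_eq_smul] }
  let L : Ω[S⁄Λ] →ₗ[S] S ⊗[R] Q := D.liftKaehlerDifferential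
  have hLr : ∀ r, L (KaehlerDifferential.D Λ S (algebraMap R S r)) = (1 : S) ⊗ₜ[R] q₁ (KaehlerDifferential.D Λ R r) :=
    fun r => by
      rw [Derivation.liftKaehlerDifferential_comp_D]
      show (G _).snd = _
      rw [hG1]; simp [g₀]
  have hLη : ∀ η, L (KaehlerDifferential.map Λ Λ R S η) = (1 : S) ⊗ₜ[R] q₁ η := by
    intro η
    have hη : η ∈ Submodule.span R (Set.range (KaehlerDifferential.D Λ R)) :=
      KaehlerDifferential.span_range_derivation Λ R ▸ Submodule.mem_top
    induction hη using Submodule.span_induction with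
    | mem z hz =>
      obtain ⟨r, rfl⟩ := hz
      rw [KaehlerDifferential.map_D]
      exact hLr r
    | zero => simp
    | add u v _ _ hu hv => rw [map_add, map_add, hu, hv, map_add, TensorProduct.tmul_add]
    | smul r u _ hu =>
      rw [map_smul, ← algebraMap_smul S r (KaehlerDifferential.map Λ Λ R S u), map_smul L, hu, algebraMap_smul,
        map_smul, TensorProduct.tmul_smul]
  have hLx : ∀ i : ℕ, L (x ^ i • KaehlerDifferential.D Λ S x) = (x ^ i) ⊗ₜ[R] rel.mkQ (0, 1) := fun i => by
    rw [map_smul, Derivation.liftKaehlerDifferential_comp_D]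
    show x ^ i • (G x).snd = _
    rw [hGx]
    simp [x', TensorProduct.smul_tmul']
  -- the multiplicative extension
  let Φ₁ : S ⊗[R] Q →ₗ[S] S ⊗[R] ExteriorAlgebra R Q := (ExteriorAlgebra.ι R).baseChange S
  have hanti : ∀ y z, Φ₁ y * Φ₁ z + Φ₁ z * Φ₁ y = 0 := by
    intro y z
    induction y using TensorProduct.induction_on with
    | zero => simp
    | add y y' hy hy' =>
      rw [map_add, add_mul, mul_add]
      rw [add_add_add_comm, hy, hy', add_zero]
    | tmul s q =>
      induction z using TensorProduct.induction_on with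
      | zero => simp
      | add z z' hz hz' =>
        rw [map_add, add_mul, mul_add]
        rw [add_add_add_comm, hz, hz', add_zero]
      | tmul s' q' =>
        simp only [Φ₁, LinearMap.baseChange_tmul, Algebra.TensorProduct.tmul_mul_tmul]
        rw [mul_comm s' s, ← TensorProduct.tmul_add, ExteriorAlgebra.ι_add_mul_swap, TensorProduct.tmul_zero]
  have hsq : ∀ y, Φ₁ y * Φ₁ y = 0 := by
    intro y
    induction y using TensorProduct.induction_on with
    | zero => simp
    | tmul s q => simp [Φ₁, Algebra.TensorProduct.tmul_mul_tmul]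
    | add y y' hy hy' =>
      rw [map_add, add_mul, mul_add, mul_add, hy, hy', zero_add, add_zero]
      exact hanti y y'
  let Φ : ExteriorAlgebra S (S ⊗[R] Q) →ₐ[S] S ⊗[R] ExteriorAlgebra R Q := ExteriorAlgebra.lift S ⟨Φ₁, hsq⟩
  -- evaluation
  let f : R[X] := X ^ p - C a
  have hf : f.Monic := monic_X_pow_sub_C a hp.ne_zero
  let τ : S →ₗ[R] R := (lcoeff R (p - 1)).comp (AdjoinRoot.modByMonicHom hf)
  have hτ : ∀ i, i < p → τ (x ^ i) = if i = p - 1 then 1 else 0 := fun i hi => by
    show (AdjoinRoot.modByMonicHom hf (x ^ i)).coeff (p - 1) = _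
    rw [show x ^ i = AdjoinRoot.mk f (X ^ i) by rw [map_pow, AdjoinRoot.mk_X], AdjoinRoot.modByMonicHom_mk,
      (Polynomial.modByMonic_eq_self_iff hf).2, coeff_X_pow]
    · simp only [eq_comm]
    · rw [degree_X_pow, degree_X_pow_sub_C hp.pos]; exact_mod_cast hi
  let ψ' : ExteriorAlgebra R Q →ₗ[R] ⋀[R]^(t + 1) (Ω[R⁄Λ]) :=
    ExteriorAlgebra.liftAlternating (Function.update 0 (t + 1) ψ)
  let fin : S ⊗[R] ExteriorAlgebra R Q →ₗ[R] ⋀[R]^(t + 1) (Ω[R⁄Λ]) :=
    (TensorProduct.lid R _).toLinearMap.comp (TensorProduct.map τ ψ')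
  let T₀ : ⋀[S]^(t + 1) (Ω[S⁄Λ]) →ₗ[S] S ⊗[R] ExteriorAlgebra R Q :=
    ((Φ.toLinearMap.comp (ExteriorAlgebra.map L).toLinearMap)).comp (Submodule.subtype _)
  let Tr : ⋀[S]^(t + 1) (Ω[S⁄Λ]) →+ ⋀[R]^(t + 1) (Ω[R⁄Λ]) := fin.toAddMonoidHom.comp T₀.toAddMonoidHom
  have hprod : ∀ (n : ℕ) (s : Fin n → S) (q : Fin n → Q),
      (List.ofFn fun i => Φ₁ (s i ⊗ₜ[R] q i)).prod = (∏ i, s i) ⊗ₜ[R] ExteriorAlgebra.ιMulti R n q := by
    intro n
    induction n with
    | zero => intro s q; simp [Algebra.TensorProduct.one_def]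
    | succ n ih =>
      intro s q
      rw [List.ofFn_succ, List.prod_cons, ih (fun i => s i.succ) (fun i => q i.succ), Fin.prod_univ_succ]
      simp only [Φ₁, LinearMap.baseChange_tmul, Algebra.TensorProduct.tmul_mul_tmul]
      congr 1
      rw [ExteriorAlgebra.ιMulti_succ_apply]
      rfl
  have hcalc : ∀ (ω : Fin (t + 1) → Ω[S⁄Λ]) (s : Fin (t + 1) → S) (m : Fin (t + 1) → Ω[R⁄Λ] × R),
      (∀ i, L (ω i) = s i ⊗ₜ[R] rel.mkQ (m i)) → ∀ c : S,
        Tr (c • exteriorPower.ιMulti S (t + 1) ω) = τ (c * ∏ i, s i) • contract e (t + 1) m := by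
    intro ω s m hω c
    show fin (T₀ (c • exteriorPower.ιMulti S (t + 1) ω)) = _
    have h0 : T₀ (exteriorPower.ιMulti S (t + 1) ω) =
        (∏ i, s i) ⊗ₜ[R] ExteriorAlgebra.ιMulti R (t + 1) (rel.mkQ ∘ m) := by
      show Φ (ExteriorAlgebra.map L (ExteriorAlgebra.ιMulti S (t + 1) ω)) = _
      rw [ExteriorAlgebra.map_apply_ιMulti, ExteriorAlgebra.ιMulti_apply, map_list_prod, List.map_ofFn, ← hprod]
      congr 1
      refine congrArg List.ofFn (funext fun i => ?_)
      show Φ (ExteriorAlgebra.ι S (L (ω i))) = _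
      rw [hω, Function.comp_apply]
      exact ExteriorAlgebra.lift_ι_apply S Φ₁ hsq _
    rw [map_smul, h0, TensorProduct.smul_tmul', smul_eq_mul]
    show TensorProduct.lid R _ (τ (c * _) ⊗ₜ[R] ψ' _) = _
    rw [TensorProduct.lid_tmul, ExteriorAlgebra.liftAlternating_apply_ιMulti, Function.update_self, hψ]
  refine ⟨Tr, fun r ω => ?_, fun η i hi => ?_, fun η => ?_, fun s η => ?_⟩
  · show fin (T₀ _) = r • fin (T₀ ω)
    rw [map_smul, algebraMap_smul, map_smul]
  all_goals clear_value Tr
  · rw [← one_smul S (exteriorPower.ιMulti S (t + 1) _),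
      hcalc _ (Fin.snoc (fun _ => (1 : S)) (x ^ i)) (Fin.snoc (fun j => (η j, (0 : R))) ((0, 1) : Ω[R⁄Λ] × R))
        (fun j => by
          refine Fin.lastCases ?_ (fun j => ?_) j
          · simp only [Fin.snoc_last]; exact hLx i
          · simp only [Fin.snoc_castSucc]; exact hLη (η j)) 1,
      Fin.prod_univ_castSucc]
    simp only [Fin.snoc_castSucc, Fin.snoc_last, Finset.prod_const_one, one_mul]
    rw [hτ i (by omega), if_neg (by omega), zero_smul]
  · rw [← one_smul S (exteriorPower.ιMulti S (t + 1) _),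
      hcalc _ (Fin.snoc (fun _ => (1 : S)) (x ^ (p - 1))) (Fin.snoc (fun j => (η j, (0 : R))) ((0, 1) : Ω[R⁄Λ] × R))
        (fun j => by
          refine Fin.lastCases ?_ (fun j => ?_) j
          · simp only [Fin.snoc_last]; exact hLx (p - 1)
          · simp only [Fin.snoc_castSucc]; exact hLη (η j)) 1,
      Fin.prod_univ_castSucc]
    simp only [Fin.snoc_castSucc, Fin.snoc_last, Finset.prod_const_one, one_mul]
    rw [hτ (p - 1) (by have := hp.pos; omega), if_pos rfl, one_smul, contract_apply,
      Finset.sum_eq_single (Fin.last t) (fun j _ hj => (exteriorPower.ιMulti R (t + 1)).map_coord_zero (Fin.last t)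
        (by rw [slot_ne e _ (Ne.symm hj), Fin.snoc_last])) (by simp)]
    congr 1
    funext j
    refine Fin.lastCases ?_ (fun j => ?_) j
    · rw [slot_self, Fin.snoc_last, Fin.snoc_last, one_smul]
    · rw [slot_ne e _ (Fin.castSucc_lt_last j).ne, Fin.snoc_castSucc, Fin.snoc_castSucc]
  · rw [hcalc _ (fun _ => 1) (fun j => (η j, 0)) (fun j => hLη (η j)) s, contract_apply,
      Finset.sum_eq_zero fun j _ => (exteriorPower.ιMulti R (t + 1)).map_coord_zero j (by rw [slot_self, zero_smul]),
      smul_zero]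

end Main

end Groth.Agent.ResolveLib.FormTrace
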