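import Groth.Agent.IntBC.Normal
import Groth.Agent.FlatLoc6.GeomRed
import Mathlib.RingTheory.AdicCompletion.Exactness
import Mathlib.RingTheory.AdicCompletion.Algebra
import Mathlib.RingTheory.AdicCompletion.AsTensorProduct
import Mathlib.RingTheory.Finiteness.Projective
import Mathlib.Algebra.Module.FinitePresentation
import Mathlib.RingTheory.Nilpotent.Basic
import Mathlib.LinearAlgebra.Dual.Lemmas

/-! Normality of the completion passes to normal subalgebras. -/

set_option linter.style.haveILetI false
set_option autoImplicit false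

universe u

namespace Groth.Agent.ResolveLib.SubNormal

open IntBC

section Criterion

variable {R : Type u} [CommRing R]

/-- Integral fractions are elements. -/
def Closed (R : Type u) [CommRing R] : Prop :=
  ∀ (α β : R) (d : ℕ) (m : ℕ → R), β ∈ nonZeroDivisors R →
    α ^ d + ∑ i ∈ Finset.range d, m i * α ^ i * β ^ (d - i) = 0 → β ∣ α

theorem closed_of_fracClosed (h : FracClosed R) : Closed R := by
  intro α β d m hβ hrel
  let I : Ideal R := Submodule.colon (Ideal.span {β}) {α}
  have hI : ∀ v, v ∈ I ↔ β ∣ v * α := fun v => by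
    rw [Submodule.mem_colon_singleton, Ideal.mem_span_singleton, smul_eq_mul]
  have h1 : I = ⊤ := by
    by_contra hne
    obtain ⟨Q, hQ, hle⟩ := Ideal.exists_le_maximal I hne
    obtain ⟨v, hv, r, hvr⟩ := h Q hQ.isPrime α β d m 1 ((Ideal.ne_top_iff_one Q).1 hQ.ne_top)
      (by rw [one_mul]; exact hrel) (fun v hv h0 => hv (by
        rw [eq_zero_of_ne_zero_of_mul_right_eq_zero' hβ h0]; exact zero_mem Q))
    exact hv (hle ((hI v).2 ⟨r, hvr⟩))
  simpa using (hI 1).1 (h1 ▸ Submodule.mem_top)
where
  eq_zero_of_ne_zero_of_mul_right_eq_zero' {β v : R} (hβ : β ∈ nonZeroDivisors R) (h : v * β = 0) : v = 0 :=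
    (mem_nonZeroDivisors_iff_right.1 hβ) v h

theorem exists_nzd_mem [IsNoetherianRing R] [IsReduced R] (I : Ideal R)
    (h : ∀ p ∈ minimalPrimes R, ¬ I ≤ p) : ∃ s ∈ I, s ∈ nonZeroDivisors R := by
  classical
  obtain ⟨s, hs, hs'⟩ : ∃ s ∈ I, ∀ p ∈ minimalPrimes R, s ∉ p := by
    by_contra hne
    push Not at hne
    have hfin := minimalPrimes.finite_of_isNoetherianRing R
    obtain ⟨p, hp, hle⟩ := (Ideal.subset_union_prime (s := hfin.toFinset) (f := id) ⊤ ⊤
      (fun p hp _ _ => Ideal.minimalPrimes_isPrime (hfin.mem_toFinset.1 hp))).1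
      (show (I : Set R) ⊆ _ from fun s hs => by
        obtain ⟨p, hp, hsp⟩ := hne s hs
        exact Set.mem_iUnion₂.2 ⟨p, hfin.mem_toFinset.2 hp, hsp⟩)
    exact h p (hfin.mem_toFinset.1 hp) hle
  refine ⟨s, hs, mem_nonZeroDivisors_iff_right.2 fun x hx => ?_⟩
  have h0 : x ∈ sInf (minimalPrimes R) := Submodule.mem_sInf.2 fun p hp =>
    ((Ideal.minimalPrimes_isPrime hp).mem_or_mem (hx ▸ p.zero_mem)).resolve_right (hs' p hp)
  rw [show sInf (minimalPrimes R) = nilradical R from Ideal.sInf_minimalPrimes, nilradical_eq_zero] at h0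
  exact h0

theorem exists_notMem_mul_eq_zero [IsReduced R] {p : Ideal R} (hp : p ∈ minimalPrimes R) {a : R} (ha : a ∈ p) :
    ∃ s ∉ p, s * a = 0 := by
  haveI := Ideal.minimalPrimes_isPrime hp
  let S : Submonoid R := p.primeCompl ⊔ Submonoid.powers a
  by_cases h0 : (0 : R) ∈ S
  · obtain ⟨s, hs, t, ⟨n, rfl⟩, hst⟩ := Submonoid.mem_sup.1 h0
    exact ⟨s, hs, IsNilpotent.eq_zero ⟨n + 1, by
      rw [mul_pow, pow_succ s, pow_succ a, show s ^ n * s * (a ^ n * a) = s ^ n * a * (s * a ^ n) by ring, hst, mul_zero]⟩⟩
  obtain ⟨q, hq, -, hqS⟩ := Ideal.exists_le_prime_disjoint ⊥ S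
    (Set.disjoint_left.2 fun x hx hxS => h0 (Ideal.mem_bot.1 hx ▸ hxS))
  have hqp : q ≤ p := fun x hx => by
    by_contra hxp
    exact Set.disjoint_left.1 hqS hx (Submonoid.mem_sup_left (show x ∈ p.primeCompl from hxp))
  have hpq : p ≤ q := hp.2 ⟨hq, bot_le⟩ hqp
  exact absurd (Submonoid.mem_sup_right (Submonoid.mem_powers a))
    (fun h => Set.disjoint_left.1 hqS (hpq ha) h)

theorem idemSep_of_closed [IsNoetherianRing R] [IsReduced R] (hc : Closed R) : IdemSep R := by
  intro a b hab
  let I : Ideal R := (Submodule.span R {a}).annihilator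
  let J : Ideal R := I.annihilator
  have hI : ∀ x, x ∈ I ↔ x * a = 0 := fun x => by
    rw [Submodule.mem_annihilator_span_singleton, smul_eq_mul]
  have hJ : ∀ x, x ∈ J ↔ ∀ i ∈ I, x * i = 0 := fun x => by
    rw [Submodule.mem_annihilator]; rfl
  obtain ⟨β, hβ, hnzd⟩ := exists_nzd_mem (I ⊔ J) fun p hp hle => by
    haveI := Ideal.minimalPrimes_isPrime hp
    by_cases hIp : I ≤ p
    · have haJ : a ∈ J := (hJ a).2 fun i hi => by rw [mul_comm]; exact (hI i).1 hi
      have hap : a ∈ p := hle (Ideal.mem_sup_right haJ)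
      -- a minimal prime containing `a` does not contain its annihilator
      obtain ⟨s, hs, hsz⟩ := exists_notMem_mul_eq_zero hp hap
      exact hs (hIp ((hI s).2 hsz))
    · exact hIp (le_sup_left.trans hle)
  obtain ⟨i, hi, j, hj, rfl⟩ := Submodule.mem_sup.1 hβ
  have hij : j * i = 0 := (hJ j).1 hj i hi
  obtain ⟨e, he⟩ := hc i (i + j) 2 (fun n => if n = 1 then -1 else 0) hnzd (by
    rw [Finset.sum_range_succ, Finset.sum_range_one]
    simp
    linear_combination -hij)
  have hz : ∀ z, (i + j) * z = 0 → z = 0 := fun z hz =>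
    mem_nonZeroDivisors_iff_right.1 hnzd z (by rw [mul_comm]; exact hz)
  refine ⟨e, sub_eq_zero.1 (hz _ ?_), hz _ ?_, sub_eq_zero.1 (hz _ ?_)⟩
  · have h2 : (i + j) * ((i + j) * (e * e - e)) = 0 := by
      linear_combination (-(i + j) * e - i + (i + j)) * he - hij
    exact hz _ h2
  · rw [← mul_assoc, ← he]; exact (hI i).1 hi
  · have hjb : j * b = 0 := (hJ j).1 hj b ((hI b).2 (by rw [mul_comm]; exact hab))
    linear_combination -b * he - hjb

theorem fracClosed_of_closed [IsNoetherianRing R] (hs : IdemSep R) (hc : Closed R) : FracClosed R := by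
  intro Q hQ a c d m s hsQ hrel hv
  let I : Ideal R := (Submodule.span R {c}).annihilator
  have hI : ∀ x, x ∈ I ↔ x * c = 0 := fun x => by
    rw [Submodule.mem_annihilator_span_singleton, smul_eq_mul]
  have hidem : IsIdempotentElem I := by
    refine le_antisymm Ideal.mul_le_left fun x hx => ?_
    obtain ⟨e, -, hec, hex⟩ := hs c x (by rw [mul_comm]; exact (hI x).1 hx)
    rw [← hex]
    exact Ideal.mul_mem_mul ((hI e).2 hec) hx
  obtain ⟨e, he, hIe⟩ := (I.isIdempotentElem_iff_of_fg (IsNoetherian.noetherian I)).mp hidem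
  have hec : e * c = 0 := (hI e).1 (hIe ▸ Submodule.mem_span_singleton_self e)
  have heQ : e ∈ Q := by
    by_contra h
    exact hv e h hec
  have hnzd : c + e ∈ nonZeroDivisors R := mem_nonZeroDivisors_iff_right.2 fun x hx => by
    have h1 : x * e = 0 := by linear_combination e * hx - x * hec - x * he.eq
    have h2 : x ∈ I := (hI x).2 (by linear_combination hx - h1)
    rw [hIe, Submodule.mem_span_singleton] at h2
    obtain ⟨r, rfl⟩ := h2
    rw [smul_eq_mul, mul_assoc, he.eq] at h1
    exact h1
  cases d with
  | zero =>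
    exfalso
    apply hsQ
    simp at hrel
    rw [hrel]; exact zero_mem Q
  | succ d =>
    have hf : IsIdempotentElem (1 - e) := he.one_sub
    have hfc : ∀ n, (1 - e) * (c + e) ^ n = (1 - e) * c ^ n := fun n => by
      induction n with
      | zero => simp
      | succ n ih =>
        have : (1 - e) * (c + e) = (1 - e) * c := by linear_combination -he.eq
        linear_combination (c + e) * ih + c ^ n * this
    have hfp : ∀ n, (1 - e) * ((1 - e) * (s * a)) ^ n = (1 - e) * (s * a) ^ n := fun n => by
      induction n with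
      | zero => simp
      | succ n ih => linear_combination ((1 - e) * (s * a)) * ih + (s * a) ^ (n + 1) * hf.eq
    obtain ⟨r, hr⟩ := hc ((1 - e) * (s * a)) (c + e) (d + 1) (fun i => (1 - e) * (m i * s ^ (d - i))) hnzd (by
      have htop : ((1 - e) * (s * a)) ^ (d + 1) = (1 - e) * (s ^ d * (s * a ^ (d + 1))) := by
        rw [pow_succ]
        linear_combination (s * a) * hfp d
      have hlow : ∀ i ∈ Finset.range (d + 1),
          (1 - e) * (m i * s ^ (d - i)) * ((1 - e) * (s * a)) ^ i * (c + e) ^ (d + 1 - i) =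
            (1 - e) * (s ^ d * (m i * a ^ i * c ^ (d + 1 - i))) := fun i hi => by
        rw [show s ^ d = s ^ (d - i) * s ^ i by
          rw [← pow_add, Nat.sub_add_cancel (Nat.lt_succ_iff.1 (Finset.mem_range.1 hi))]]
        linear_combination (m i * s ^ (d - i) * (c + e) ^ (d + 1 - i)) * hfp i +
          (m i * s ^ (d - i) * (s * a) ^ i) * hfc (d + 1 - i)
      rw [htop, Finset.sum_congr rfl hlow, ← Finset.mul_sum, ← Finset.mul_sum, ← mul_add, ← mul_add, hrel,
        mul_zero, mul_zero])
    refine ⟨(1 - e) * s, hQ.mul_notMem (fun h => hQ.ne_top ((Ideal.eq_top_iff_one Q).2 ?_)) hsQ, (1 - e) * r, ?_⟩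
    · simpa using add_mem h heQ
    · linear_combination (1 - e) * hr + (s * a) * (-hf.eq) + r * hfc 1

theorem isNormalRing_of_closed [IsNoetherianRing R] [IsReduced R] (hc : Closed R) : EGA4.IsNormalRing R :=
  isNormalRing_of (idemSep_of_closed hc) (fracClosed_of_closed (idemSep_of_closed hc) hc)

theorem closed_of_isNormalRing (h : EGA4.IsNormalRing R) : Closed R :=
  closed_of_fracClosed (fracClosed_of_normal h)

end Criterion

section Functionals

variable {B : Type u} [CommRing B] [IsNoetherianRing B] [IsReduced B]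
  {M : Type u} [AddCommGroup M] [Module B M] [Module.Finite B M]

/-- Functionals detect everything but torsion. -/
theorem exists_nzd_of_forall_dual (x : M) (h : ∀ l : M →ₗ[B] B, l x = 0) :
    ∃ s ∈ nonZeroDivisors B, s • x = 0 := by
  obtain ⟨s, hs, hs'⟩ := exists_nzd_mem (Submodule.span B {x}).annihilator fun p hp hle => by
    haveI := Ideal.minimalPrimes_isPrime hp
    haveI : Module.FinitePresentation B M := Module.finitePresentation_of_finite B M
    let S := p.primeCompl
    letI : Field (Localization.AtPrime p) := IsField.toField <| IsLocalRing.isField_iff_maximalIdeal_eq.2 <|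
      le_bot_iff.1 fun z hz => by
        obtain ⟨a, t, rfl⟩ := IsLocalization.exists_mk'_eq p.primeCompl z
        rw [IsLocalization.AtPrime.mk'_mem_maximal_iff _ p] at hz
        obtain ⟨c, hc, hca⟩ := exists_notMem_mul_eq_zero hp hz
        rw [Ideal.mem_bot]
        exact (IsLocalization.mk'_eq_zero_iff _ _).2 ⟨⟨c, hc⟩, hca⟩
    let f := LocalizedModule.mkLinearMap S M
    have hx : f x ≠ 0 := fun h0 => by
      obtain ⟨⟨c, hc⟩, hcx⟩ := (IsLocalizedModule.eq_zero_iff S f).1 h0
      exact hc (hle (Submodule.mem_annihilator_span_singleton _ _ |>.2 hcx))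
    obtain ⟨φ, hφ⟩ := Module.Projective.exists_dual_ne_zero (Localization.AtPrime p) hx
    obtain ⟨l, t, hlt⟩ := Module.FinitePresentation.exists_lift_of_isLocalizedModule S
      (Algebra.linearMap B (Localization.AtPrime p)) ((φ.restrictScalars B).comp f)
    have h1 := LinearMap.congr_fun hlt x
    simp only [LinearMap.comp_apply, LinearMap.smul_apply, LinearMap.restrictScalars_apply, h l,
      map_zero] at h1
    obtain ⟨u, hu⟩ := IsLocalization.map_units (Localization.AtPrime p) t
    have h2 : algebraMap B (Localization.AtPrime p) t * φ (f x) = 0 := by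
      rw [← Algebra.smul_def]; exact h1.symm
    rw [← hu, Units.mul_right_eq_zero] at h2
    exact hφ h2
  exact ⟨s, hs', Submodule.mem_annihilator_span_singleton _ _ |>.1 hs⟩

theorem exists_map_free : ∃ (n : ℕ) (Λ : M →ₗ[B] (Fin n → B)), ∀ x, Λ x = 0 ↔ ∃ s ∈ nonZeroDivisors B, s • x = 0 := by
  haveI : Module.Finite B (M →ₗ[B] B) := inferInstance
  obtain ⟨n, l, hl⟩ := Module.Finite.exists_fin (R := B) (M := M →ₗ[B] B)
  refine ⟨n, LinearMap.pi l, fun x => ⟨fun h => exists_nzd_of_forall_dual x fun l' => ?_, ?_⟩⟩
  · have hmem : l' ∈ Submodule.span B (Set.range l) := hl ▸ Submodule.mem_top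
    induction hmem using Submodule.span_induction with
    | mem y hy => obtain ⟨i, rfl⟩ := hy; exact congrFun h i
    | zero => rfl
    | add a b _ _ ha hb => rw [LinearMap.add_apply, ha, hb, add_zero]
    | smul r a _ ha => rw [LinearMap.smul_apply, ha, smul_zero]
  · rintro ⟨s, hs, hsx⟩
    funext i
    refine mem_nonZeroDivisors_iff_right.1 hs _ ?_
    rw [LinearMap.pi_apply, mul_comm, ← smul_eq_mul, ← map_smul, hsx, map_zero]

end Functionals

section Compare

variable {B C : Type u} [CommRing B] [CommRing C] [Algebra B C] (J : Ideal B)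

local notation "K" => J.map (algebraMap B C)

theorem smul_top_le (n : ℕ) :
    (J ^ n • ⊤ : Submodule B C) = ((K ^ n • ⊤ : Ideal C)).restrictScalars B := by
  rw [Ideal.smul_top_eq_map, Ideal.map_pow, Ideal.smul_eq_mul, Ideal.mul_top]

/-- Quotients by the powers. -/
noncomputable def qmap (n : ℕ) : C ⧸ (J ^ n • ⊤ : Submodule B C) →ₗ[B] C ⧸ (K ^ n • ⊤ : Ideal C) :=
  Submodule.liftQ _ ((Submodule.mkQ (K ^ n • ⊤ : Ideal C)).restrictScalars B) fun x hx => by
    rw [smul_top_le] at hx
    exact (Submodule.Quotient.mk_eq_zero _).2 hx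

@[simp] theorem qmap_mk (n : ℕ) (x : C) : qmap J n (Submodule.Quotient.mk x) = Submodule.Quotient.mk x := rfl

theorem qmap_bijective (n : ℕ) : Function.Bijective (qmap (C := C) J n) := by
  refine ⟨fun x y h => ?_, fun y => ?_⟩
  · obtain ⟨x, rfl⟩ := Submodule.Quotient.mk_surjective _ x
    obtain ⟨y, rfl⟩ := Submodule.Quotient.mk_surjective _ y
    rw [qmap_mk, qmap_mk, Submodule.Quotient.eq] at h
    rw [Submodule.Quotient.eq, smul_top_le]
    exact h
  · obtain ⟨y, rfl⟩ := Submodule.Quotient.mk_surjective _ y
    exact ⟨Submodule.Quotient.mk y, rfl⟩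

/-- The module completion of an algebra is its completion as a ring. -/
noncomputable def cmap (x : AdicCompletion J C) : AdicCompletion K C :=
  ⟨fun n => qmap J n (x.val n), fun {m n} hmn => by
    obtain ⟨z, hz⟩ := Submodule.Quotient.mk_surjective _ (x.val n)
    show AdicCompletion.transitionMap _ C hmn (qmap J n (x.val n)) = qmap J m (x.val m)
    rw [← x.property hmn, ← hz]
    rfl⟩

@[simp] theorem cmap_val (x : AdicCompletion J C) (n : ℕ) : (cmap J x).val n = qmap J n (x.val n) := rfl

theorem cmap_injective : Function.Injective (cmap (C := C) J) := fun x y h =>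
  AdicCompletion.ext fun n => (qmap_bijective J n).1 (congrArg (fun z => z.val n) h)

theorem cmap_add (x y : AdicCompletion J C) : cmap J (x + y) = cmap J x + cmap J y :=
  AdicCompletion.ext fun n => by simp

theorem cmap_zero : cmap J (0 : AdicCompletion J C) = 0 :=
  AdicCompletion.ext fun n => by simp

theorem cmap_surjective : Function.Surjective (cmap (C := C) J) := by
  intro y
  choose g hg using fun n => (qmap_bijective J n).2 (y.val n)
  refine ⟨⟨g, fun {m n} hmn => (qmap_bijective J m).1 ?_⟩, AdicCompletion.ext fun n => hg n⟩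
  obtain ⟨z, hz⟩ := Submodule.Quotient.mk_surjective _ (g n)
  rw [hg, ← y.prop hmn, ← hg n, ← hz]
  rfl

/-- The structure map on completions. -/
noncomputable def phi (b : AdicCompletion J B) : AdicCompletion K C :=
  cmap J (AdicCompletion.map J (Algebra.linearMap B C) b)

theorem cmap_smul (b : AdicCompletion J B) (x : AdicCompletion J C) : cmap J (b • x) = phi J b * cmap J x := by
  refine AdicCompletion.ext fun n => ?_
  obtain ⟨z, hz⟩ := Submodule.Quotient.mk_surjective _ (x.val n)
  obtain ⟨w, hw⟩ := Submodule.Quotient.mk_surjective _ (b.val n)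
  rw [AdicCompletion.val_mul, cmap_val, AdicCompletion.smul_eval, cmap_val, phi, cmap_val,
    AdicCompletion.map_val_apply, ← hz, ← hw]
  show qmap J n (Submodule.Quotient.mk (w • z)) = Submodule.Quotient.mk (algebraMap B C w * z)
  rw [qmap_mk]
  exact congrArg _ (Algebra.smul_def w z)

theorem phi_mul (a b : AdicCompletion J B) : phi (C := C) J (a * b) = phi J a * phi J b := by
  refine AdicCompletion.ext fun n => ?_
  obtain ⟨z, hz⟩ := Submodule.Quotient.mk_surjective _ (a.val n)
  obtain ⟨w, hw⟩ := Submodule.Quotient.mk_surjective _ (b.val n)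
  rw [AdicCompletion.val_mul, phi, cmap_val, AdicCompletion.map_val_apply, AdicCompletion.val_mul, phi, cmap_val,
    AdicCompletion.map_val_apply, phi, cmap_val, AdicCompletion.map_val_apply, ← hz, ← hw]
  show Submodule.Quotient.mk (algebraMap B C (z * w)) = Submodule.Quotient.mk (algebraMap B C z * algebraMap B C w)
  rw [map_mul]

theorem phi_one : phi (C := C) J 1 = 1 := by
  refine AdicCompletion.ext fun n => ?_
  rw [phi, cmap_val, AdicCompletion.map_val_apply, AdicCompletion.val_one, AdicCompletion.val_one]
  show Submodule.Quotient.mk (algebraMap B C 1) = _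
  rw [map_one]
  rfl

theorem cmap_mul_left (ε : C) (x : AdicCompletion J C) :
    cmap J (AdicCompletion.map J (LinearMap.mulLeft B ε) x) = algebraMap C (AdicCompletion K C) ε * cmap J x := by
  refine AdicCompletion.ext fun n => ?_
  obtain ⟨z, hz⟩ := Submodule.Quotient.mk_surjective _ (x.val n)
  rw [AdicCompletion.val_mul, cmap_val, cmap_val, AdicCompletion.map_val_apply, ← hz]
  rfl

/-- The structure map as a ring map. -/
noncomputable def phiHom : AdicCompletion J B →+* AdicCompletion K C where
  toFun := phi J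
  map_one' := phi_one J
  map_mul' := phi_mul J
  map_zero' := by simp only [phi, map_zero, cmap_zero]
  map_add' a b := by simp only [phi, map_add, cmap_add]

/-- Non-zero-divisors act injectively on completed free modules. -/
theorem pi_torsionFree {n : ℕ} {β : AdicCompletion J B} (hβ : β ∈ nonZeroDivisors (AdicCompletion J B))
    (y : AdicCompletion J (Fin n → B)) (h : β • y = 0) : y = 0 := by
  classical
  have hj : ∀ j, AdicCompletion.map J (LinearMap.proj j : (Fin n → B) →ₗ[B] B) y = 0 := fun j => by
    refine mem_nonZeroDivisors_iff_right.1 hβ _ ?_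
    rw [mul_comm, ← smul_eq_mul]
    show β • AdicCompletion.map J (LinearMap.proj j : (Fin n → B) →ₗ[B] B) y = 0
    rw [← map_smul, h, map_zero]
  refine AdicCompletion.ext fun i => ?_
  obtain ⟨w, hw⟩ := Submodule.Quotient.mk_surjective _ (y.val i)
  rw [← hw, AdicCompletion.val_zero, Pi.zero_apply, Submodule.Quotient.mk_eq_zero,
    ← Finset.univ_sum_single w]
  refine Submodule.sum_mem _ fun j _ => ?_
  have h1 : w j ∈ (J ^ i • ⊤ : Submodule B B) := by
    have := congrArg (fun z => z.val i) (hj j)
    simp only [AdicCompletion.map_val_apply, ← hw, AdicCompletion.val_zero, Pi.zero_apply] at this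
    exact (Submodule.Quotient.mk_eq_zero _).1 this
  have h2 := Submodule.mem_map_of_mem (f := LinearMap.single B (fun _ : Fin n => B) j) h1
  rw [Submodule.map_smul''] at h2
  exact (smul_mono_right (J ^ i) le_top : _ ≤ (J ^ i • ⊤ : Submodule B (Fin n → B))) h2

end Compare

section Main

variable {B C : Type u} [CommRing B] [IsNoetherianRing B] [CommRing C] [Algebra B C] [Module.Finite B C]
  (J : Ideal B)

/-- The completion of a normal subring of a finite extension with normal completion is normal. -/
theorem isNormalRing_completion (hinj : Function.Injective (algebraMap B C)) (hB : EGA4.IsNormalRing B)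
    (hC : EGA4.IsNormalRing (AdicCompletion (J.map (algebraMap B C)) C)) (hsub : EGA4.IsNormalRing C)
    [IsNoetherianRing (AdicCompletion J B)] : EGA4.IsNormalRing (AdicCompletion J B) := by
  classical
  haveI : IsReduced B := FlatLoc6.isReduced_of_isNormalRing B hB
  haveI : IsNoetherianRing C := IsNoetherianRing.of_finite B C
  let ι := Algebra.linearMap B C
  -- torsion
  obtain ⟨n₀, Λ₀, hΛ₀⟩ := exists_map_free (B := B) (M := C)
  let T : Ideal C :=
    { carrier := {c | Λ₀ c = 0}
      add_mem' := fun {x y} hx hy => by show Λ₀ (x + y) = 0; rw [map_add, show Λ₀ x = 0 from hx, show Λ₀ y = 0 from hy, add_zero]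
      zero_mem' := map_zero Λ₀
      smul_mem' := fun c x hx => by
        obtain ⟨s, hs, hsx⟩ := (hΛ₀ x).1 hx
        exact (hΛ₀ _).2 ⟨s, hs, by rw [← smul_comm, hsx, smul_zero]⟩ }
  have hsC := idemSep_of_noetherian hsub
  have hT : IsIdempotentElem T := by
    refine le_antisymm Ideal.mul_le_left fun x hx => ?_
    obtain ⟨s, hs, hsx⟩ := (hΛ₀ x).1 hx
    obtain ⟨e, -, hes, hex⟩ := hsC (algebraMap B C s) x (by rw [← Algebra.smul_def]; exact hsx)
    rw [← hex]
    exact Ideal.mul_mem_mul ((hΛ₀ e).2 ⟨s, hs, by rw [Algebra.smul_def, mul_comm]; exact hes⟩) hx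
  obtain ⟨ε, hε, hTε⟩ := (T.isIdempotentElem_iff_of_fg (IsNoetherian.noetherian T)).mp hT
  have hεT : ∀ z, Λ₀ (ε * z) = 0 := fun z => show ε * z ∈ T from
    hTε ▸ Ideal.mem_span_singleton.2 (dvd_mul_right ε z)
  have hTmem : ∀ c, Λ₀ c = 0 → ε * c = c := fun c hc => by
    have hmem : c ∈ T := hc
    rw [hTε, Ideal.mem_span_singleton] at hmem
    obtain ⟨r, rfl⟩ := hmem
    rw [← mul_assoc, hε.eq]
  have hι0 : Function.Injective (Λ₀.comp ι) := (injective_iff_map_eq_zero _).2 fun b hb => by
    obtain ⟨s, hs, hsb⟩ := (hΛ₀ _).1 hb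
    refine mem_nonZeroDivisors_iff_right.1 hs b (hinj ?_)
    rw [map_zero, map_mul, mul_comm, ← Algebra.smul_def]
    exact hsb
  -- the sequence
  let ψ : B × C →ₗ[B] C := ι.coprod (LinearMap.mulLeft B ε)
  let π : C →ₗ[B] C ⧸ LinearMap.range ψ := (LinearMap.range ψ).mkQ
  obtain ⟨n₁, Λ₁, hΛ₁⟩ := exists_map_free (B := B) (M := C ⧸ LinearMap.range ψ)
  have hΛ₁inj : Function.Injective Λ₁ := (injective_iff_map_eq_zero _).2 fun q hq => by
    obtain ⟨c, rfl⟩ := Submodule.Quotient.mk_surjective _ q
    obtain ⟨s, hs, hsc⟩ := (hΛ₁ _).1 hq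
    rw [← Submodule.Quotient.mk_smul, Submodule.Quotient.mk_eq_zero] at hsc
    obtain ⟨⟨b, z⟩, hbz⟩ := hsc
    simp only [ψ, ι, LinearMap.coprod_apply, Algebra.linearMap_apply, LinearMap.mulLeft_apply] at hbz
    -- `b = s b'` by normality of `B`
    have hdvd : s ∣ b := by
      have hc : IsIntegral B c := IsIntegral.of_finite B c
      obtain ⟨p, hp, hpc⟩ := hc
      refine closed_of_isNormalRing hB b s p.natDegree (fun i => p.coeff i) hs ?_
      apply hι0
      rw [map_zero, LinearMap.comp_apply]
      show Λ₀ (algebraMap B C _) = 0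
      have h1 : algebraMap B C (b ^ p.natDegree + ∑ i ∈ Finset.range p.natDegree, p.coeff i * b ^ i * s ^ (p.natDegree - i)) * (1 - ε) =
          algebraMap B C s ^ p.natDegree * (1 - ε) * Polynomial.eval₂ (algebraMap B C) c p := by
        have hb : algebraMap B C b * (1 - ε) = algebraMap B C s * c * (1 - ε) := by
          rw [← Algebra.smul_def s c, ← hbz]
          have hε0 : ε * (1 - ε) = 0 := by rw [mul_sub, mul_one, hε.eq, sub_self]
          linear_combination (-z) * hε0
        have hpow : ∀ k, algebraMap B C b ^ k * (1 - ε) = (algebraMap B C s * c) ^ k * (1 - ε) := fun k => by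
          induction k with
          | zero => simp
          | succ k ih =>
            rw [pow_succ, pow_succ]
            linear_combination (algebraMap B C s * c) * ih + (algebraMap B C b ^ k) * hb
        rw [Polynomial.eval₂_eq_sum_range, Finset.sum_range_succ, hp.coeff_natDegree, map_one, one_mul,
          mul_add (algebraMap B C s ^ p.natDegree * (1 - ε)), Finset.mul_sum, map_add, map_sum, map_pow, add_mul,
          Finset.sum_mul, add_comm]
        congr 1
        · refine Finset.sum_congr rfl fun i hi => ?_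
          rw [map_mul, map_mul, map_pow, map_pow, show algebraMap B C s ^ p.natDegree =
            algebraMap B C s ^ i * algebraMap B C s ^ (p.natDegree - i) by
              rw [← pow_add, Nat.add_sub_cancel' (Finset.mem_range.1 hi).le]]
          linear_combination (algebraMap B C (p.coeff i) * algebraMap B C s ^ (p.natDegree - i)) * hpow i
        · rw [hpow, mul_pow]; ring
      rw [hpc, mul_zero, mul_sub, mul_one, sub_eq_zero] at h1
      rw [h1, mul_comm]
      exact hεT _
    obtain ⟨b', rfl⟩ := hdvd
    have h2 : Λ₀ (c - algebraMap B C b') = 0 := by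
      rw [hΛ₀]
      obtain ⟨t, ht, htz⟩ := (hΛ₀ _).1 (hεT z)
      refine ⟨t * s, mul_mem ht hs, ?_⟩
      rw [mul_smul, smul_sub s, Algebra.smul_def s (algebraMap B C b'), ← map_mul, ← hbz, add_sub_cancel_left]
      exact htz
    rw [Submodule.Quotient.mk_eq_zero]
    refine ⟨(b', c - algebraMap B C b'), ?_⟩
    simp only [ψ, ι, LinearMap.coprod_apply, Algebra.linearMap_apply, LinearMap.mulLeft_apply]
    rw [hTmem _ h2]
    ring
  -- completed statements
  let K := J.map (algebraMap B C)
  let E : AdicCompletion K C := algebraMap C _ ε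
  have hkerεB : ∀ x : AdicCompletion J C, AdicCompletion.map J Λ₀ x = 0 →
      E * cmap J x = cmap J x := by
    intro x hx
    let g₀ := Λ₀.rangeRestrict
    have hg : AdicCompletion.map J g₀ x = 0 := by
      apply AdicCompletion.map_injective J (f := (LinearMap.range Λ₀).subtype) Subtype.val_injective
      rw [map_zero, ← LinearMap.comp_apply, AdicCompletion.map_comp]
      exact hx
    have hex : Function.Exact (LinearMap.ker Λ₀).subtype g₀ := by
      rw [LinearMap.exact_iff, Submodule.range_subtype, LinearMap.ker_rangeRestrict]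
    obtain ⟨y, rfl⟩ := (AdicCompletion.map_exact (I := J) Subtype.val_injective hex Λ₀.surjective_rangeRestrict x).1 hg
    rw [← cmap_mul_left, ← LinearMap.comp_apply, AdicCompletion.map_comp]
    congr 3
    exact LinearMap.ext fun k => hTmem k.1 k.2
  have hεB : ∀ x : AdicCompletion J C, cmap J x * (1 - E) = 0 ↔ AdicCompletion.map J Λ₀ x = 0 := by
    intro x
    refine ⟨fun h => ?_, fun h => by rw [mul_sub, mul_one, mul_comm, hkerεB x h, sub_self]⟩
    have h1 : x = AdicCompletion.map J (LinearMap.mulLeft B ε) x := cmap_injective J (by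
      rw [cmap_mul_left]; linear_combination h)
    rw [h1, ← LinearMap.comp_apply, AdicCompletion.map_comp,
      show Λ₀.comp (LinearMap.mulLeft B ε) = 0 from LinearMap.ext hεT, AdicCompletion.map_zero, LinearMap.zero_apply]
  have hphi : ∀ b : AdicCompletion J B, phi J b * (1 - E) = 0 → b = 0 := fun b hb => by
    have h1 := (hεB _).1 hb
    rw [← LinearMap.comp_apply, AdicCompletion.map_comp] at h1
    exact AdicCompletion.map_injective J hι0 (h1.trans (map_zero _).symm)
  haveI := FlatLoc6.isReduced_of_isNormalRing _ hC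
  haveI : IsReduced (AdicCompletion J B) := by
    refine ⟨fun b ⟨k, hk⟩ => hphi b ?_⟩
    have : IsNilpotent (phi (C := C) J b) := ⟨k, by
      have hhom : ∀ j, phi (C := C) J (b ^ j) = phi J b ^ j := fun j => by
        induction j with
        | zero => simp [phi_one]
        | succ j ih => rw [pow_succ, pow_succ, phi_mul, ih]
      rw [← hhom, hk, phi, map_zero, cmap_zero]⟩
    rw [this.eq_zero, zero_mul]
  refine isNormalRing_of_closed fun α β d m hβ hrel => ?_
  have hE : IsIdempotentElem E := hε.map (algebraMap C (AdicCompletion K C))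
  let β' := phi (C := C) J β * (1 - E) + E
  have hnzd : β' ∈ nonZeroDivisors (AdicCompletion K C) := mem_nonZeroDivisors_iff_right.2 fun x hx => by
    have hxE : x * E = 0 := by
      linear_combination E * hx + (x * phi (C := C) J β - x) * hE.eq
    obtain ⟨x, rfl⟩ := cmap_surjective J x
    have h1 : cmap J (β • x) * (1 - E) = 0 := by
      rw [cmap_smul]; linear_combination hx - hxE
    rw [hεB, map_smul] at h1
    rw [← hkerεB x (pi_torsionFree J hβ _ h1), mul_comm, hxE]
  cases d with
  | zero =>
    simp only [pow_zero, Finset.range_zero, Finset.sum_empty, add_zero] at hrel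
    exact ⟨0, by rw [mul_zero, ← mul_one α, hrel, mul_zero]⟩
  | succ d =>
    let Φ : AdicCompletion J B →+* AdicCompletion K C := phiHom J
    let F : AdicCompletion K C := 1 - E
    have hF : F * F = F := hE.one_sub.eq
    have hFα : ∀ i, F * (F * Φ α) ^ i = F * Φ α ^ i := fun i => by
      induction i with
      | zero => simp
      | succ i ih => linear_combination (F * Φ α) * ih + (Φ α ^ (i + 1)) * hF
    have hFβ : ∀ i, F * β' ^ i = F * Φ β ^ i := fun i => by
      induction i with
      | zero => simp
      | succ i ih =>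
        have : F * β' = F * Φ β := by
          show F * (Φ β * (1 - E) + E) = F * Φ β
          linear_combination (Φ β - 1) * hE.eq
        linear_combination β' * ih + Φ β ^ i * this
    obtain ⟨r, hr⟩ := closed_of_isNormalRing hC (F * Φ α) β' (d + 1) (fun i => F * Φ (m i)) hnzd (by
      have h0 := congrArg (fun z => F * Φ z) hrel
      simp only [map_add, map_sum, map_mul, map_pow, map_zero, mul_zero] at h0
      rw [← h0, mul_add, Finset.mul_sum]
      congr 1
      · rw [pow_succ]; linear_combination Φ α * hFα d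
      · refine Finset.sum_congr rfl fun i _ => ?_
        linear_combination (Φ (m i) * β' ^ (d + 1 - i)) * hFα i + (Φ (m i) * Φ α ^ i) * hFβ (d + 1 - i))
    obtain ⟨y, rfl⟩ := cmap_surjective J r
    have hr' : F * Φ α = F * (Φ β * cmap J y) := by
      linear_combination F * hr + cmap J y * hFβ 1 - Φ α * hF
    let v := AdicCompletion.map J ι α - β • y
    have hv : AdicCompletion.map J Λ₀ v = 0 := by
      rw [← hεB]
      have h1 : cmap J v + cmap J (β • y) = cmap J (AdicCompletion.map J ι α) := by
        rw [← cmap_add, sub_add_cancel]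
      rw [cmap_smul, show cmap J (AdicCompletion.map J ι α) = Φ α from rfl, show phi J β = Φ β from rfl] at h1
      show cmap J v * F = 0
      linear_combination F * h1 + hr'
    have hcz : ∀ {P : Type u} [AddCommGroup P] [Module B P] (g : C →ₗ[B] P), g.comp (LinearMap.mulLeft B ε) = 0 →
        AdicCompletion.map J g v = 0 := fun g hg => by
      have hv2 : v = AdicCompletion.map J (LinearMap.mulLeft B ε) v := cmap_injective J (by
        rw [cmap_mul_left]; exact (hkerεB v hv).symm)
      rw [hv2, ← LinearMap.comp_apply, AdicCompletion.map_comp, hg, AdicCompletion.map_zero, LinearMap.zero_apply]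
    have hπy : AdicCompletion.map J π y = 0 := by
      refine AdicCompletion.map_injective J hΛ₁inj ((pi_torsionFree J hβ _ ?_).trans (map_zero _).symm)
      have hπι : π.comp ι = 0 := LinearMap.ext fun b =>
        (Submodule.Quotient.mk_eq_zero _).2 ⟨(b, 0), by simp [ψ, ι]⟩
      have hπε : π.comp (LinearMap.mulLeft B ε) = 0 := LinearMap.ext fun z =>
        (Submodule.Quotient.mk_eq_zero _).2 ⟨(0, z), by simp [ψ, ι]⟩
      have h1 : AdicCompletion.map J π (β • y) = 0 := by
        have h2 := hcz π hπε
        rw [map_sub, ← LinearMap.comp_apply (AdicCompletion.map J π), AdicCompletion.map_comp, hπι,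
          AdicCompletion.map_zero, LinearMap.zero_apply, zero_sub, neg_eq_zero] at h2
        exact h2
      rw [← map_smul, ← map_smul, h1, map_zero]
    have hex : Function.Exact (LinearMap.range ψ).subtype π := LinearMap.exact_subtype_mkQ _
    obtain ⟨p', hp'⟩ := (AdicCompletion.map_exact (I := J) Subtype.val_injective hex (Submodule.mkQ_surjective _) y).1 hπy
    obtain ⟨p, rfl⟩ := AdicCompletion.map_surjective J ψ.surjective_rangeRestrict p'
    rw [← LinearMap.comp_apply, AdicCompletion.map_comp,
      show (LinearMap.range ψ).subtype.comp ψ.rangeRestrict = ψ from rfl] at hp'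
    let b := AdicCompletion.map J (LinearMap.fst B B C) p
    have hy : F * cmap J y = F * Φ b := by
      have hFc : F = algebraMap C (AdicCompletion K C) (1 - ε) := by rw [map_sub, map_one]
      rw [hFc, ← hp']
      show _ = _ * cmap J (AdicCompletion.map J ι b)
      rw [← cmap_mul_left, ← cmap_mul_left, ← LinearMap.comp_apply, AdicCompletion.map_comp,
        ← LinearMap.comp_apply, AdicCompletion.map_comp, ← LinearMap.comp_apply, AdicCompletion.map_comp]
      refine congrArg (cmap J) (DFunLike.congr_fun (congrArg (AdicCompletion.map J) (LinearMap.ext fun q => ?_)) _)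
      simp only [ψ, ι, LinearMap.comp_apply, LinearMap.coprod_apply, LinearMap.mulLeft_apply,
        Algebra.linearMap_apply, LinearMap.fst_apply]
      linear_combination (-q.2) * hε.eq
    refine ⟨b, sub_eq_zero.1 (hphi _ ?_)⟩
    show Φ (α - β * b) * F = 0
    rw [map_sub, map_mul]
    linear_combination hr' + Φ β * hy

end Main

end Groth.Agent.ResolveLib.SubNormal
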